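import Mathlib
import Cfsg.Agent.Lib.TwoGroup.Recognition

/-!
# Orbits of the automorphism group when the derived subgroup is central of prime order
-/

set_option autoImplicit false
set_option linter.unusedSectionVars false

namespace Cfsg.Agent.Lib.AutOrbits

open Cfsg.Agent.Lib.TwoGroup
open scoped commutatorElement

variable {G : Type*} [Group G] {p : ℕ}

/-- Orbits of the automorphism group. -/
abbrev AutOrbit (G : Type*) [Group G] := MulAction.orbitRel.Quotient (MulAut G) G

theorem mk_eq_of_aut {x y : G} (f : MulAut G) (h : f x = y) :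
    (Quotient.mk'' x : AutOrbit G) = Quotient.mk'' y :=
  Quotient.sound' ⟨f⁻¹, by rw [← h]; exact f.symm_apply_apply x⟩

/-- Powers of a commutator: `(uv)^n = u^n v^n d^(n choose 2)` for central `d`. -/
theorem mul_pow_central {u v d : G} (hd : d ∈ Subgroup.center G) (h : v * u = u * v * d) (n : ℕ) :
    (u * v) ^ n = u ^ n * v ^ n * d ^ n.choose 2 := by
  have hc : ∀ (k : ℕ) (g : G), d ^ k * g = g * d ^ k := fun k g =>
    (Subgroup.mem_center_iff.mp (Subgroup.pow_mem _ hd k) g).symm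
  have hvu : ∀ k : ℕ, v ^ k * u = u * v ^ k * d ^ k := by
    intro k
    induction k with
    | zero => simp
    | succ k ih =>
      calc v ^ (k + 1) * u = v * (v ^ k * u) := by rw [pow_succ', mul_assoc]
        _ = (v * u) * (v ^ k * d ^ k) := by rw [ih]; simp only [mul_assoc]
        _ = u * v * (d ^ 1 * v ^ k) * d ^ k := by rw [h, pow_one]; simp only [mul_assoc]
        _ = u * (v * v ^ k) * (d ^ 1 * d ^ k) := by rw [hc 1]; simp only [mul_assoc]
        _ = u * v ^ (k + 1) * d ^ (k + 1) := by rw [← pow_succ', ← pow_add, Nat.add_comm 1 k]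
  induction n with
  | zero => simp
  | succ n ih =>
    rw [pow_succ, ih, mul_assoc (u ^ n * v ^ n), hc, mul_assoc (u ^ n), ← mul_assoc (v ^ n),
      ← mul_assoc (v ^ n) u, hvu, Nat.choose_succ_succ', Nat.choose_one_right, pow_succ u, pow_succ v,
      pow_add]
    simp only [mul_assoc]
    congr 3
    rw [← mul_assoc (d ^ n), hc, mul_assoc]

variable [Fact p.Prime]

/-- A group whose derived subgroup is generated by the central element `c` of order `p`. -/
structure Data (G : Type*) [Group G] (p : ℕ) where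
  c : G
  order : orderOf c = p
  central : c ∈ Subgroup.center G
  comm : ∀ a g : G, ∃ i : ZMod p, a * g * a⁻¹ * g⁻¹ = zmodPow c i

namespace Data

variable (D : Data G p)
include D

theorem pow_eq_one : D.c ^ p = 1 := by have h := pow_orderOf_eq_one D.c; rwa [D.order] at h

/-- Powers of `c`. -/
def C (i : ZMod p) : G := zmodPow D.c i

theorem C_add (i j : ZMod p) : D.C (i + j) = D.C i * D.C j := zmodPow_add D.pow_eq_one i j

theorem C_zero : D.C 0 = 1 := zmodPow_zero D.pow_eq_one

theorem C_mem_center (i : ZMod p) : D.C i ∈ Subgroup.center G := Subgroup.zpow_mem _ D.central _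

theorem C_comm (i : ZMod p) (g : G) : D.C i * g = g * D.C i :=
  (Subgroup.mem_center_iff.mp (D.C_mem_center i) g).symm

theorem C_injective : Function.Injective D.C := zmodPow_injective D.order

/-- The exponent of the commutator. -/
noncomputable def L (a g : G) : ZMod p := (D.comm a g).choose

theorem L_spec (a g : G) : a * g = g * a * D.C (D.L a g) := by
  have h : a * g * a⁻¹ * g⁻¹ = D.C (D.L a g) := (D.comm a g).choose_spec
  rw [mul_inv_eq_iff_eq_mul, mul_inv_eq_iff_eq_mul, D.C_comm, mul_assoc, D.C_comm, ← mul_assoc] at h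
  exact h

theorem L_eq_zero_iff (a g : G) : D.L a g = 0 ↔ Commute a g := by
  constructor
  · intro h
    show a * g = g * a
    rw [D.L_spec a g, h, C_zero, mul_one]
  · intro h
    refine D.C_injective (mul_left_cancel (a := g * a) ?_)
    rw [← D.L_spec a g, C_zero, mul_one]
    exact h.eq

theorem L_mul (a g h : G) : D.L a (g * h) = D.L a g + D.L a h := by
  refine D.C_injective (mul_left_cancel (a := g * h * a) ?_)
  rw [← D.L_spec, ← mul_assoc, D.L_spec a g, mul_assoc (g * a), D.C_comm, mul_assoc g, ← mul_assoc a,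
    D.L_spec a h, C_add]
  simp only [mul_assoc]
  rw [D.C_comm (D.L a h) (D.C (D.L a g))]

theorem L_pow (a g : G) (n : ℕ) : D.L a (g ^ n) = n * D.L a g := by
  induction n with
  | zero => rw [pow_zero, Nat.cast_zero, zero_mul, L_eq_zero_iff]; exact Commute.one_right a
  | succ n ih => rw [pow_succ, L_mul, ih, Nat.cast_succ, add_mul, one_mul]

theorem L_central (a : G) {z : G} (hz : z ∈ Subgroup.center G) : D.L a z = 0 :=
  (D.L_eq_zero_iff a z).mpr (Subgroup.mem_center_iff.mp hz a)

theorem pow_mem_center (g : G) : g ^ p ∈ Subgroup.center G :=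
  Subgroup.mem_center_iff.mpr fun a => ((D.L_eq_zero_iff a _).mp (by rw [L_pow, ZMod.natCast_self, zero_mul])).eq

theorem exists_L_ne_zero {x : G} (hx : x ∉ Subgroup.center G) : ∃ a, D.L a x ≠ 0 := by
  rw [Subgroup.mem_center_iff] at hx
  push Not at hx
  obtain ⟨a, ha⟩ := hx
  exact ⟨a, fun h => ha ((D.L_eq_zero_iff a x).mp h)⟩

theorem pow_mul_comm (w h : G) (n : ℕ) : w ^ n * h = h * w ^ n * D.C (n * D.L w h) := by
  induction n with
  | zero => simp [C_zero]
  | succ n ih =>
    rw [pow_succ' w, mul_assoc, ih, ← mul_assoc, ← mul_assoc, D.L_spec w h, Nat.cast_succ, add_mul,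
      one_mul, C_add]
    simp only [mul_assoc]
    rw [← mul_assoc (D.C (D.L w h)) (w ^ n), D.C_comm (D.L w h) (w ^ n)]
    simp only [mul_assoc]
    rw [D.C_comm (D.L w h)]

/-- A noncentral element is fused with its translates by the derived subgroup. -/
theorem mk_mul_C {x : G} (hx : x ∉ Subgroup.center G) (i : ZMod p) :
    (Quotient.mk'' x : AutOrbit G) = Quotient.mk'' (x * D.C i) := by
  obtain ⟨a, ha⟩ := D.exists_L_ne_zero hx
  set n := (i * (D.L a x)⁻¹).val with hn
  refine mk_eq_of_aut (MulAut.conj (a ^ n)) ?_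
  show a ^ n * x * (a ^ n)⁻¹ = x * D.C i
  rw [mul_inv_eq_iff_eq_mul, D.pow_mul_comm a x n, mul_assoc x (D.C i), D.C_comm, ← mul_assoc]
  congr 2
  rw [hn, ZMod.natCast_zmod_val, inv_mul_cancel_right₀ ha]

/-- Central translations fuse a noncentral element with `x * z`, `z` central of exponent `p`. -/
theorem mk_mul_central [Finite G] {x z : G} (hx : x ∉ Subgroup.center G) (hz : z ∈ Subgroup.center G)
    (hzp : z ^ p = 1) : (Quotient.mk'' x : AutOrbit G) = Quotient.mk'' (x * z) := by
  obtain ⟨a, ha⟩ := D.exists_L_ne_zero hx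
  set s := (D.L a x)⁻¹ with hs
  have hzc : ∀ (i : ZMod p) (g : G), zmodPow z i * g = g * zmodPow z i := fun i g =>
    (Subgroup.mem_center_iff.mp (Subgroup.zpow_mem _ hz _) g).symm
  let f : G →* G :=
    { toFun := fun g => g * zmodPow z (s * D.L a g)
      map_one' := by rw [D.L_central a (one_mem _), mul_zero, zmodPow_zero hzp, one_mul]
      map_mul' := fun g h => by
        rw [D.L_mul, mul_add, zmodPow_add hzp, mul_assoc, mul_assoc, ← mul_assoc (zmodPow z (s * D.L a g)) h,
          hzc (s * D.L a g) h, mul_assoc] }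
  have hf : Function.Injective f := by
    refine (injective_iff_map_eq_one f).mpr fun g hg => ?_
    have hg' : g * zmodPow z (s * D.L a g) = 1 := hg
    have h1 : D.L a g = 0 := by
      have := congrArg (D.L a) hg'
      rw [D.L_mul, D.L_central a (z := zmodPow z (s * D.L a g)) (Subgroup.zpow_mem _ hz _),
        D.L_central a (one_mem _), add_zero] at this
      exact this
    rwa [h1, mul_zero, zmodPow_zero hzp, mul_one] at hg'
  refine mk_eq_of_aut (MulEquiv.ofBijective f (Finite.injective_iff_bijective.mp hf)) ?_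
  show x * zmodPow z (s * D.L a x) = x * z
  rw [hs, inv_mul_cancel₀ ha, zmodPow_one hzp]

/-- The automorphism `g ↦ g F([w,g])`. -/
theorem mk_mul_section [Finite G] (w : G) (F : ZMod p → G) (hF0 : F 0 = 1)
    (hFadd : ∀ i j, F i * F j * D.C (i * j) = F (i + j))
    (hFw : ∀ i, ∃ t : ZMod p, F i = w ^ i.val * D.C t) (x : G) :
    (Quotient.mk'' x : AutOrbit G) = Quotient.mk'' (x * F (D.L w x)) := by
  have hFh : ∀ i h, F i * h = h * F i * D.C (i * D.L w h) := by
    intro i h
    obtain ⟨t, ht⟩ := hFw i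
    rw [ht, mul_assoc, D.C_comm, ← mul_assoc, D.pow_mul_comm, ZMod.natCast_zmod_val]
    simp only [mul_assoc]
    rw [D.C_comm (i * D.L w h) (D.C t)]
  let f : G →* G :=
    { toFun := fun g => g * F (D.L w g)
      map_one' := by rw [D.L_central w (one_mem _), hF0, one_mul]
      map_mul' := fun g h => by
        symm
        calc g * F (D.L w g) * (h * F (D.L w h))
            = g * (F (D.L w g) * h) * F (D.L w h) := by simp only [mul_assoc]
          _ = g * h * (F (D.L w g) * D.C (D.L w g * D.L w h) * F (D.L w h)) := by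
              rw [hFh]; simp only [mul_assoc]
          _ = g * h * F (D.L w (g * h)) := by
              rw [mul_assoc (F _), D.C_comm, ← mul_assoc (F _), hFadd, D.L_mul] }
  have hf : Function.Injective f := by
    refine (injective_iff_map_eq_one f).mpr fun g hg => ?_
    have hg' : g * F (D.L w g) = 1 := hg
    have h1 : D.L w g = 0 := by
      have h2 := congrArg (D.L w) hg'
      obtain ⟨t, ht⟩ := hFw (D.L w g)
      rw [D.L_mul, ht, D.L_mul, D.L_central w (D.C_mem_center t), D.L_pow,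
        (D.L_eq_zero_iff w w).mpr (Commute.refl w), mul_zero, D.L_central w (one_mem _), add_zero,
        add_zero] at h2
      exact h2
    rwa [h1, hF0, mul_one] at hg'
  exact mk_eq_of_aut (MulEquiv.ofBijective f (Finite.injective_iff_bijective.mp hf)) rfl

end Data

theorem card_inl_add_compl {α β : Type*} [Finite α] [Finite β] (S : Set β) :
    Nat.card (α ⊕ {b : β // b ∉ S}) + Nat.card S = Nat.card α + Nat.card β := by
  classical
  rw [Nat.card_sum, add_assoc, ← Nat.card_congr (Equiv.sumCompl (· ∈ S)), Nat.card_sum]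
  show _ + (_ + Nat.card {b // b ∈ S}) = _
  ring

/-- Large `Ω₁(Z(G))`. -/
theorem bound_of_omega_large [Finite G] (D : Data G p) (Ω : Subgroup G) [Ω.Normal]
    (hΩc : Ω ≤ Subgroup.center G) (hΩp : ∀ z ∈ Ω, z ^ p = 1) (hΩ : p ^ 2 ≤ Nat.card Ω)
    (hidx : p ^ 2 ≤ (Subgroup.center G).index) :
    p * Nat.card (AutOrbit G) ≤ Nat.card G := by
  classical
  set Zb := (Subgroup.center G).map (QuotientGroup.mk' Ω) with hZb
  let Φ : Subgroup.center G ⊕ {q : G ⧸ Ω // q ∉ (Zb : Set (G ⧸ Ω))} → AutOrbit G :=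
    Sum.elim (fun z => Quotient.mk'' (z : G)) (fun q => Quotient.mk'' q.1.out)
  have hΦ : Function.Surjective Φ := by
    intro o
    induction o using Quotient.inductionOn' with
    | h x =>
      by_cases hx : x ∈ Subgroup.center G
      · exact ⟨Sum.inl ⟨x, hx⟩, rfl⟩
      have hq : (x : G ⧸ Ω) ∉ (Zb : Set (G ⧸ Ω)) := by
        rintro ⟨z, hz, hzx⟩
        apply hx
        have h1 : z⁻¹ * x ∈ Ω := QuotientGroup.eq.mp hzx
        simpa using mul_mem hz (hΩc h1)
      refine ⟨Sum.inr ⟨x, hq⟩, ?_⟩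
      obtain ⟨z, hz⟩ := QuotientGroup.mk_out_eq_mul Ω x
      show Quotient.mk'' (x : G ⧸ Ω).out = _
      rw [hz]
      exact (D.mk_mul_central hx (hΩc z.2) (hΩp z z.2)).symm
  have h1 := Nat.card_le_card_of_surjective Φ hΦ
  have h2 := card_inl_add_compl (α := Subgroup.center G) (Zb : Set (G ⧸ Ω))
  have h3 : Nat.card (Subgroup.center G) = Nat.card Ω * Nat.card Zb := by
    have h := Subgroup.card_mul_index ((QuotientGroup.mk' Ω).comp (Subgroup.center G).subtype).ker
    rw [Subgroup.index_ker, MonoidHom.range_comp, Subgroup.range_subtype] at h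
    rw [← h]
    congr 1
    exact Nat.card_congr
      { toFun := fun z => ⟨z.1.1, (QuotientGroup.eq_one_iff _).mp z.2⟩
        invFun := fun w => ⟨⟨w.1, hΩc w.2⟩, (QuotientGroup.eq_one_iff _).mpr w.2⟩
        left_inv := fun z => rfl
        right_inv := fun w => rfl }
  have h4 := Subgroup.card_eq_card_quotient_mul_card_subgroup Ω
  have h5 := Subgroup.card_mul_index (Subgroup.center G)
  have hoa : p ^ 2 * Nat.card Zb ≤ Nat.card (G ⧸ Ω) := by
    refine Nat.le_of_mul_le_mul_left ?_ (Nat.card_pos (α := Ω))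
    calc Nat.card Ω * (p ^ 2 * Nat.card Zb) = Nat.card (Subgroup.center G) * p ^ 2 := by rw [h3]; ring
      _ ≤ Nat.card (Subgroup.center G) * (Subgroup.center G).index := Nat.mul_le_mul_left _ hidx
      _ = Nat.card Ω * Nat.card (G ⧸ Ω) := by rw [h5, h4]; ring
  have hp2 : 2 ≤ p := (Fact.out : p.Prime).two_le
  have hS : Nat.card (Zb : Set (G ⧸ Ω)) = Nat.card Zb := rfl
  rw [hS, h3] at h2
  have hmul : p * (Nat.card (AutOrbit G) + Nat.card Zb) ≤
      p * (Nat.card Ω * Nat.card Zb + Nat.card (G ⧸ Ω)) := Nat.mul_le_mul_left _ (by omega)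
  have hrest : p * (Nat.card Ω * Nat.card Zb + Nat.card (G ⧸ Ω)) ≤ Nat.card G + p * Nat.card Zb := by
    rw [h4]
    have key : ∀ o a n : ℕ, p ^ 2 ≤ o → p ^ 2 * a ≤ n → p * (o * a + n) ≤ n * o + p * a := by
      intro o a n ho hn
      obtain ⟨d, rfl⟩ : ∃ d, o = p ^ 2 + d := ⟨o - p ^ 2, by omega⟩
      obtain ⟨e, rfl⟩ : ∃ e, n = p ^ 2 * a + e := ⟨n - p ^ 2 * a, by omega⟩
      obtain ⟨q, rfl⟩ : ∃ q, p = q + 2 := ⟨p - 2, by omega⟩
      exact le_iff_exists_add.mpr ⟨a * ((q + 2) ^ 3 * q + (q + 2)) + d * a * ((q + 2) * (q + 1)) +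
        e * ((q + 2) * (q + 1) + d), by ring⟩
    exact key _ _ _ hΩ hoa
  rw [mul_add] at hmul
  omega

/-- A noncentral `w` with a compatible section. -/
theorem bound_of_section [Finite G] (D : Data G p) (Z' : Subgroup G) [Z'.Normal]
    (hZ' : Z' = Subgroup.zpowers D.c) (w : G) (hw : w ∉ Subgroup.center G) (F : ZMod p → G)
    (hF0 : F 0 = 1) (hFadd : ∀ i j, F i * F j * D.C (i * j) = F (i + j))
    (hFw : ∀ i, ∃ t : ZMod p, F i = w ^ i.val * D.C t) :
    p * Nat.card (AutOrbit G) ≤ Nat.card G := by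
  classical
  have hp : p.Prime := Fact.out
  obtain ⟨g, hg⟩ : ∃ g, D.L w g ≠ 0 := by
    rw [Subgroup.mem_center_iff] at hw
    push Not at hw
    obtain ⟨g, hg⟩ := hw
    exact ⟨g, fun h => hg ((D.L_eq_zero_iff w g).mp h).symm⟩
  set b := g ^ ((D.L w g)⁻¹).val with hb
  have hLb : D.L w b = 1 := by rw [hb, D.L_pow, ZMod.natCast_zmod_val, inv_mul_cancel₀ hg]
  have hLww : D.L w w = 0 := (D.L_eq_zero_iff w w).mpr (Commute.refl w)
  have hLbw : ∀ (k : ℕ) (z : G), z ∈ Subgroup.center G → D.L w (b * w ^ k * z) = 1 := fun k z hz => by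
    rw [D.L_mul, D.L_mul, hLb, D.L_pow, hLww, mul_zero, D.L_central w hz, add_zero, add_zero]
  have hnc : ∀ (k : ℕ) (z : G), z ∈ Subgroup.center G → b * w ^ k * z ∉ Subgroup.center G := fun k z hz h => by
    have := hLbw k z hz
    rw [D.L_central w h] at this
    exact zero_ne_one this
  -- every element of `b w^k Z` is fused into `b Z`
  have hfuse : ∀ (k : ℕ) (z : G), k < p → z ∈ Subgroup.center G → ∃ z' ∈ Subgroup.center G,
      (Quotient.mk'' (b * w ^ k * z) : AutOrbit G) = Quotient.mk'' (b * z') := by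
    intro k
    induction k with
    | zero => intro z _ hz; exact ⟨z, hz, by rw [pow_zero, mul_one]⟩
    | succ k ih =>
      intro z hk hz
      obtain ⟨t, ht⟩ := hFw 1
      obtain ⟨z', hz', he⟩ := ih (z * (D.C t)⁻¹) (by omega) (mul_mem hz (inv_mem (D.C_mem_center t)))
      refine ⟨z', hz', ?_⟩
      rw [← he, D.mk_mul_section w F hF0 hFadd hFw (b * w ^ k * (z * (D.C t)⁻¹)),
        hLbw k _ (mul_mem hz (inv_mem (D.C_mem_center t))), ht, ZMod.val_one, pow_one]
      congr 1
      have hzc : z * (D.C t)⁻¹ * w = w * (z * (D.C t)⁻¹) :=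
        (Subgroup.mem_center_iff.mp (mul_mem hz (inv_mem (D.C_mem_center t))) w).symm
      rw [show b * w ^ k * (z * (D.C t)⁻¹) * (w * D.C t) = b * w ^ k * ((z * (D.C t)⁻¹) * w) * D.C t by group,
        hzc]
      rw [pow_succ]
      group
  have hwpow : ∀ k : ℕ, k < p → w ^ k ∈ Subgroup.center G → k = 0 := by
    intro k hk h
    have h1 := D.L_central g h
    rw [D.L_pow, mul_eq_zero, ZMod.natCast_eq_zero_iff] at h1
    rcases h1 with h1 | h1
    · exact Nat.eq_zero_of_dvd_of_lt h1 hk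
    · exact absurd ((D.L_eq_zero_iff w g).mpr ((D.L_eq_zero_iff g w).mp h1).symm) hg
  let e : Fin p → G := fun k => if (k : ℕ) = 0 then 1 else b * w ^ (k : ℕ)
  set Zb := (Subgroup.center G).map (QuotientGroup.mk' Z') with hZb
  let Ψ : Fin p × Zb → G ⧸ Z' := fun t => (e t.1 : G ⧸ Z') * t.2.1
  have he0 : ∀ (k : Fin p) (u : Zb), (k : ℕ) = 0 → Ψ (k, u) = u.1 := fun k u hk => by
    show (e k : G ⧸ Z') * u.1 = u.1
    rw [show e k = 1 from if_pos hk, QuotientGroup.mk_one, one_mul]
  have he1 : ∀ (k : Fin p) (z : G) (hz : (z : G ⧸ Z') ∈ Zb), (k : ℕ) ≠ 0 →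
      Ψ (k, ⟨z, hz⟩) = ((b * w ^ (k : ℕ) * z : G) : G ⧸ Z') := fun k z hz hk => by
    show (e k : G ⧸ Z') * (z : G ⧸ Z') = _
    rw [show e k = b * w ^ (k : ℕ) from if_neg hk, QuotientGroup.mk_mul Z' (b * w ^ (k : ℕ)) z]
  have hZ'c : Z' ≤ Subgroup.center G := hZ'.le.trans (Subgroup.zpowers_le.mpr D.central)
  have hmem : ∀ x : G, (x : G ⧸ Z') ∈ Zb → x ∈ Subgroup.center G := by
    rintro x ⟨z, hz, hzx⟩
    have h1 : z⁻¹ * x ∈ Z' := QuotientGroup.eq.mp hzx
    simpa using mul_mem hz (hZ'c h1)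
  have hinj : Function.Injective Ψ := by
    rintro ⟨k, ⟨u, hu⟩⟩ ⟨l, ⟨v, hv⟩⟩ h
    have h' : (e k : G ⧸ Z') * u = (e l : G ⧸ Z') * v := h
    have h1 : (e l)⁻¹ * e k ∈ Subgroup.center G := by
      refine hmem _ ?_
      rw [QuotientGroup.mk_mul, QuotientGroup.mk_inv,
        show ((e l : G) : G ⧸ Z')⁻¹ * (e k : G ⧸ Z') = v * u⁻¹ by
          rw [eq_mul_inv_iff_mul_eq, mul_assoc, h', inv_mul_cancel_left]]
      exact mul_mem hv (inv_mem hu)
    have hkl : k = l := by
      by_contra hne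
      have hne' : (k : ℕ) ≠ l := Fin.val_ne_of_ne hne
      simp only [e] at h1
      split_ifs at h1 with hl hk hk
      · omega
      · exact hnc _ 1 (one_mem _) (by simpa using h1)
      · refine hnc (l : ℕ) 1 (one_mem _) ?_
        simpa using inv_mem h1
      · rw [mul_inv_rev, mul_assoc, inv_mul_cancel_left] at h1
        rcases Nat.lt_or_gt_of_ne hne' with hlt | hlt
        · have := hwpow ((l : ℕ) - k) (by have := l.2; omega) (by
            rw [pow_sub w hlt.le]
            have h2 := inv_mem h1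
            rw [mul_inv_rev, inv_inv] at h2
            have h3 : (w ^ (l : ℕ) * (w ^ (k : ℕ))⁻¹) = (w ^ (k : ℕ))⁻¹ * w ^ (l : ℕ) :=
              ((Commute.pow_pow_self w (l : ℕ) k).inv_right).eq
            rwa [h3])
          omega
        · have := hwpow ((k : ℕ) - l) (by have := k.2; omega) (by
            rw [pow_sub w hlt.le]
            have h3 : (w ^ (k : ℕ) * (w ^ (l : ℕ))⁻¹) = (w ^ (l : ℕ))⁻¹ * w ^ (k : ℕ) :=
              ((Commute.pow_pow_self w (k : ℕ) l).inv_right).eq
            rwa [h3])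
          omega
    subst hkl
    exact Prod.ext rfl (Subtype.ext (mul_left_cancel h'))
  let Φ : Subgroup.center G ⊕ {q : G ⧸ Z' // q ∉ Set.range Ψ} → AutOrbit G :=
    Sum.elim (fun z => Quotient.mk'' (z : G)) (fun q => Quotient.mk'' q.1.out)
  have hcov : ∀ x : G, (x : G ⧸ Z') ∉ Set.range Ψ → ∃ a, Φ a = Quotient.mk'' x := by
    intro x hx
    refine ⟨Sum.inr ⟨x, hx⟩, ?_⟩
    have hxc : x ∉ Subgroup.center G := fun h => hx ⟨(⟨0, hp.pos⟩, ⟨_, ⟨x, h, rfl⟩⟩), by simp [Ψ, e]⟩
    obtain ⟨⟨z, hz⟩, hzx⟩ := QuotientGroup.mk_out_eq_mul Z' x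
    obtain ⟨k, rfl⟩ := Subgroup.mem_zpowers_iff.mp (hZ' ▸ hz)
    show Quotient.mk'' (x : G ⧸ Z').out = _
    rw [hzx]
    show Quotient.mk'' (x * D.c ^ k) = _
    rw [show D.c ^ k = D.C (k : ZMod p) from (zmodPow_intCast D.pow_eq_one k).symm]
    exact (D.mk_mul_C hxc _).symm
  have hΦ : Function.Surjective Φ := by
    intro o
    induction o using Quotient.inductionOn' with
    | h x =>
      by_cases hx : x ∈ Subgroup.center G
      · exact ⟨Sum.inl ⟨x, hx⟩, rfl⟩
      by_cases hr : (x : G ⧸ Z') ∈ Set.range Ψ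
      swap
      · exact hcov x hr
      obtain ⟨⟨k, ⟨u, hu⟩⟩, hk⟩ := hr
      obtain ⟨z, hz, rfl⟩ := hu
      have hk0 : (k : ℕ) ≠ 0 := fun h0 => hx (hmem x (by
        rw [← hk, he0 _ _ h0]; exact ⟨z, hz, rfl⟩))
      have hxe : (b * w ^ (k : ℕ) * z)⁻¹ * x ∈ Z' := by
        rw [← QuotientGroup.eq, ← hk]; exact (he1 k z _ hk0).symm
      obtain ⟨z', hz', hzo⟩ := hfuse k (z * ((b * w ^ (k : ℕ) * z)⁻¹ * x)) k.2 (mul_mem hz (hZ'c hxe))
      rw [show b * w ^ (k : ℕ) * (z * ((b * w ^ (k : ℕ) * z)⁻¹ * x)) = x by group] at hzo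
      rw [hzo]
      refine hcov _ ?_
      rintro ⟨⟨l, ⟨v, hv⟩⟩, hl⟩
      obtain ⟨z'', hz'', rfl⟩ := hv
      by_cases hl0 : (l : ℕ) = 0
      · refine hnc 0 z' hz' (by
          rw [pow_zero, mul_one]
          exact hmem _ (by rw [← hl, he0 _ _ hl0]; exact ⟨z'', hz'', rfl⟩))
      · refine hl0 (hwpow l l.2 ?_)
        have h1 : (b * z')⁻¹ * (b * w ^ (l : ℕ) * z'') ∈ Z' := by
          rw [← QuotientGroup.eq, ← hl]; exact he1 l z'' _ hl0
        rw [show w ^ (l : ℕ) = z' * ((b * z')⁻¹ * (b * w ^ (l : ℕ) * z'')) * z''⁻¹ by group]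
        exact mul_mem (mul_mem hz' (hZ'c h1)) (inv_mem hz'')
  have h1 := Nat.card_le_card_of_surjective Φ hΦ
  have h2 := card_inl_add_compl (α := Subgroup.center G) (Set.range Ψ)
  have hr : Nat.card (Set.range Ψ) = p * Nat.card Zb := by
    rw [Nat.card_range_of_injective hinj, Nat.card_prod, Nat.card_eq_fintype_card (α := Fin p), Fintype.card_fin]
  have hcZ' : Nat.card Z' = p := by rw [hZ', Nat.card_zpowers, D.order]
  have h3 : Nat.card (Subgroup.center G) = p * Nat.card Zb := by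
    have h := Subgroup.card_mul_index ((QuotientGroup.mk' Z').comp (Subgroup.center G).subtype).ker
    rw [Subgroup.index_ker, MonoidHom.range_comp, Subgroup.range_subtype] at h
    rw [← h, ← hcZ']
    congr 1
    exact Nat.card_congr
      { toFun := fun z => ⟨z.1.1, (QuotientGroup.eq_one_iff _).mp z.2⟩
        invFun := fun z => ⟨⟨z.1, hZ'c z.2⟩, (QuotientGroup.eq_one_iff _).mpr z.2⟩
        left_inv := fun z => rfl
        right_inv := fun z => rfl }
  rw [Subgroup.card_eq_card_quotient_mul_card_subgroup Z', hcZ', mul_comm (Nat.card (G ⧸ Z'))]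
  exact Nat.mul_le_mul_left _ (by omega)

end Cfsg.Agent.Lib.AutOrbits
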